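import Cfsg.Agent.Spor.Fi22N1.D0

set_option autoImplicit false
set_option maxRecDepth 100000000
set_option Elab.async false

namespace Cfsg.Agent.Spor.Fi22N1

theorem ok0 : Net.okb 1 n0 = true := by decide +kernel

theorem ok1 : Net.okb 1 n1 = true := by decide +kernel

theorem ok2 : Net.okb 1 n2 = true := by decide +kernel

theorem ok3 : Net.okb 1 n3 = true := by decide +kernel

theorem ok4 : Net.okb 1 n4 = true := by decide +kernel

theorem ok5 : Net.okb 1 n5 = true := by decide +kernel

theorem ok6 : Net.okb 1 n6 = true := by decide +kernel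

theorem ok7 : Net.okb 1 n7 = true := by decide +kernel

theorem ok8 : Net.okb 1 n8 = true := by decide +kernel

theorem rel0 : T.rel 1 [1, 1] 0 1 = true := by decide +kernel

theorem rel1 : T.rel 1 [2, 2] 0 1 = true := by decide +kernel

theorem rel2 : T.rel 1 [3, 3] 0 1 = true := by decide +kernel

theorem rel3 : T.rel 1 [4, 4] 0 1 = true := by decide +kernel

theorem rel4 : T.rel 1 [5, 5] 0 1 = true := by decide +kernel

theorem rel5 : T.rel 1 [6, 6] 0 1 = true := by decide +kernel

theorem rel6 : T.rel 1 [7, 7] 0 1 = true := by decide +kernel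

theorem rel7 : T.rel 1 [8, 8] 0 1 = true := by decide +kernel

theorem rel8 : T.rel 1 [9, 9] 0 1 = true := by decide +kernel

theorem rel9 : T.rel 1 [2, 1, 2, 1, 2, 1] 0 1 = true := by decide +kernel

theorem rel10 : T.rel 1 [3, 1, 3, 1] 0 1 = true := by decide +kernel

theorem rel11 : T.rel 1 [4, 1, 4, 1] 0 1 = true := by decide +kernel

theorem rel12 : T.rel 1 [5, 1, 5, 1] 0 1 = true := by decide +kernel

theorem rel13 : T.rel 1 [6, 1, 6, 1] 0 1 = true := by decide +kernel

theorem rel14 : T.rel 1 [7, 1, 7, 1] 0 1 = true := by decide +kernel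

theorem rel15 : T.rel 1 [8, 1, 8, 1] 0 1 = true := by decide +kernel

theorem rel16 : T.rel 1 [9, 1, 9, 1] 0 1 = true := by decide +kernel

theorem rel17 : T.rel 1 [3, 2, 3, 2, 3, 2] 0 1 = true := by decide +kernel

theorem rel18 : T.rel 1 [4, 2, 4, 2] 0 1 = true := by decide +kernel

theorem rel19 : T.rel 1 [5, 2, 5, 2] 0 1 = true := by decide +kernel

theorem rel20 : T.rel 1 [6, 2, 6, 2] 0 1 = true := by decide +kernel

theorem rel21 : T.rel 1 [7, 2, 7, 2] 0 1 = true := by decide +kernel

theorem rel22 : T.rel 1 [8, 2, 8, 2] 0 1 = true := by decide +kernel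

theorem rel23 : T.rel 1 [9, 2, 9, 2] 0 1 = true := by decide +kernel

theorem rel24 : T.rel 1 [4, 3, 4, 3, 4, 3] 0 1 = true := by decide +kernel

theorem rel25 : T.rel 1 [5, 3, 5, 3] 0 1 = true := by decide +kernel

theorem rel26 : T.rel 1 [6, 3, 6, 3] 0 1 = true := by decide +kernel

theorem rel27 : T.rel 1 [7, 3, 7, 3] 0 1 = true := by decide +kernel

theorem rel28 : T.rel 1 [8, 3, 8, 3] 0 1 = true := by decide +kernel

theorem rel29 : T.rel 1 [9, 3, 9, 3] 0 1 = true := by decide +kernel

theorem rel30 : T.rel 1 [5, 4, 5, 4, 5, 4] 0 1 = true := by decide +kernel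

theorem rel31 : T.rel 1 [6, 4, 6, 4] 0 1 = true := by decide +kernel

theorem rel32 : T.rel 1 [7, 4, 7, 4] 0 1 = true := by decide +kernel

theorem rel33 : T.rel 1 [8, 4, 8, 4, 8, 4] 0 1 = true := by decide +kernel

theorem rel34 : T.rel 1 [9, 4, 9, 4] 0 1 = true := by decide +kernel

theorem rel35 : T.rel 1 [6, 5, 6, 5, 6, 5] 0 1 = true := by decide +kernel

theorem rel36 : T.rel 1 [7, 5, 7, 5] 0 1 = true := by decide +kernel

theorem rel37 : T.rel 1 [8, 5, 8, 5] 0 1 = true := by decide +kernel

theorem rel38 : T.rel 1 [9, 5, 9, 5] 0 1 = true := by decide +kernel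

theorem rel39 : T.rel 1 [7, 6, 7, 6, 7, 6] 0 1 = true := by decide +kernel

theorem rel40 : T.rel 1 [8, 6, 8, 6] 0 1 = true := by decide +kernel

theorem rel41 : T.rel 1 [9, 6, 9, 6] 0 1 = true := by decide +kernel

theorem rel42 : T.rel 1 [8, 7, 8, 7] 0 1 = true := by decide +kernel

theorem rel43 : T.rel 1 [9, 7, 9, 7] 0 1 = true := by decide +kernel

theorem rel44 : T.rel 1 [9, 8, 9, 8, 9, 8] 0 1 = true := by decide +kernel

theorem rel45 : T.rel 1 [9, 8, 4, 6, 5, 4, 2, 3, 4, 9, 8, 4, 6, 5, 4, 2, 3, 4, 9, 8, 4, 6, 5, 4, 2, 3, 4, 9, 8, 4, 6, 5, 4, 2, 3, 4, 9, 8, 4, 6, 5, 4, 2, 3, 4, 9, 8, 4, 6, 5, 4, 2, 3, 4, 9, 8, 4, 6, 5, 4, 2, 3, 4, 9, 8, 4, 6, 5, 4, 2, 3, 4, 9, 8, 4, 6, 5, 4, 2, 3, 4, 9, 8, 4, 6, 5, 4, 2, 3, 4] 0 1 = true := by decide +kernel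

theorem rel46 : T.rel 1 [8, 6, 5, 4, 3, 2, 1, 8, 6, 5, 4, 3, 2, 1, 8, 6, 5, 4, 3, 2, 1, 8, 6, 5, 4, 3, 2, 1, 8, 6, 5, 4, 3, 2, 1, 8, 6, 5, 4, 3, 2, 1, 8, 6, 5, 4, 3, 2, 1, 8, 6, 5, 4, 3, 2, 1, 8, 6, 5, 4, 3, 2, 1] 0 1 = true := by decide +kernel

theorem rel47 : T.rel 1 [8, 7, 6, 5, 4, 3, 2, 8, 7, 6, 5, 4, 3, 2, 8, 7, 6, 5, 4, 3, 2, 8, 7, 6, 5, 4, 3, 2, 8, 7, 6, 5, 4, 3, 2, 8, 7, 6, 5, 4, 3, 2, 8, 7, 6, 5, 4, 3, 2, 8, 7, 6, 5, 4, 3, 2, 8, 7, 6, 5, 4, 3, 2] 0 1 = true := by decide +kernel

theorem rel48 : T.rel 1 [1] 0 1 = true := by decide +kernel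

theorem hcov : T.treeCov (ones 1) L 1 = true := by decide +kernel

theorem hg : lall (fun z => band (memL L z) (band (sub (ones 1) (T.let z).cl) (T.closed (ones 1) z))) gs = true := by decide +kernel

theorem hivk : ivOk (2 * 9) EX IV = true := by decide +kernel

theorem hrt : RT.ok (2 * 9) EX RL = true := by decide +kernel

theorem hdefs : defs F 39 = true := by decide +kernel

noncomputable def st0_l : List Nat := [nat_lit 0x1, nat_lit 0x80013c02, nat_lit 0x1001, nat_lit 0x2900001002, nat_lit 0x2a800008000a2000030002a80000806, nat_lit 0x180015c02, nat_lit 0x60002880001c03, nat_lit 0x200000c000590000380002405, nat_lit 0x2801, nat_lit 0x2f00002802, nat_lit 0x30800020000b6000090003080002006, nat_lit 0xc40005c0003180001804, nat_lit 0x380019402, nat_lit 0xc0002880003403, nat_lit 0xc0002c80003403, nat_lit 0xe0003480003c03, nat_lit 0x3800018000670000680003c05, nat_lit 0x100003780004403, nat_lit 0x400001c0006b0000780004405, nat_lit 0x4801, nat_lit 0x3a00004802, nat_lit 0x3b800040000da000110003b80004006,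 nat_lit 0xf0000720003c80003804, nat_lit 0x3d0001e0000e0000790003d80003006, nat_lit 0x68001f402, nat_lit 0x140002880005403, nat_lit 0x140002c80005403, nat_lit 0x140003380005403, nat_lit 0x160004080005c03, nat_lit 0x160004180005c03, nat_lit 0x58000280007f0000a80005c05, nat_lit 0x180004380006403, nat_lit 0x180004580006403, nat_lit 0x600002c000850000b80006405, nat_lit 0x1a0004880006c03, nat_lit 0x1a0004780006c03, nat_lit 0x6800030000890000c80006c05, nat_lit 0x7001, nat_lit 0x4c00007002, nat_lit 0x4d8000680011a0001b0004d80006806, nat_lit 0x138000960004e80006004, nat_lit 0x4f000270001240009d0004f80005806, nat_lit 0x1400009e0004e0002500013a0009f0005080005008, nat_lit 0xa80028c02, nat_lit 0x1e0002880007c03, nat_lit 0x1e0002c80007c03, nat_lit 0x1e0003380007c03, nat_lit 0x1e0003f80007c03, nat_lit 0x200005380008403, nat_lit 0x200005480008403, nat_lit 0x200005580008403, nat_lit 0x800003c000a50000f80008405, nat_lit 0x220005780008c03, nat_lit 0x220005880008c03, nat_lit 0x220005a80008c03, nat_lit 0x8800040000ad0001080008c05,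 nat_lit 0x240005b80009403, nat_lit 0x240005e80009403, nat_lit 0x240005d80009403, nat_lit 0x9000044000b30001180009405, nat_lit 0x260006280009c03, nat_lit 0x260006080009c03, nat_lit 0x260006180009c03, nat_lit 0x9800048000b90001280009c05, nat_lit 0xa001, nat_lit 0x670000a002, nat_lit 0x688000980017e000270006880009806, nat_lit 0x1a4000cc0006980009004, nat_lit 0x6a0003480018c000d30006a80008806, nat_lit 0x1ac000d400069000320001a6000d50006b80008008, nat_lit 0x6c000358001a8000d20006500034c001aa000d70006c8000780a, nat_lit 0xf80036c02, nat_lit 0x2a000288000ac03, nat_lit 0x2a0002c8000ac03, nat_lit 0x2a000338000ac03, nat_lit 0x2a0003f8000ac03, nat_lit 0x2a000528000ac03, nat_lit 0x2c0006f8000b403, nat_lit 0x2c000708000b403, nat_lit 0x2c000718000b403, nat_lit 0x2c000728000b403, nat_lit 0xb000054000dd000158000b405, nat_lit 0x2e000748000bc03, nat_lit 0x2e000758000bc03, nat_lit 0x2e000768000bc03, nat_lit 0x2e000788000bc03, nat_lit 0xb800058000e7000168000bc05, nat_lit 0x30000798000c403, nat_lit 0x300007a8000c403,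 nat_lit 0x300007d8000c403, nat_lit 0x300007c8000c403, nat_lit 0xc00005c000ef000178000c405, nat_lit 0x320007e8000cc03, nat_lit 0x32000828000cc03, nat_lit 0x32000808000cc03, nat_lit 0x32000818000cc03, nat_lit 0xc800060000f7000188000cc05, nat_lit 0x34000878000d403, nat_lit 0x34000848000d403, nat_lit 0x34000858000d403, nat_lit 0x34000868000d403, nat_lit 0xd000064000ff000198000d405, nat_lit 0xd801, nat_lit 0x8d0000d802, nat_lit 0x8e8000d00020e000350008e8000d006, nat_lit 0x23c001180008f8000c804, nat_lit 0x90000478002200011f000908000c006, nat_lit 0x244001200008f0004480023e00121000918000b808, nat_lit 0x92000488002400011e0008a00047c0024200123000928000b00a, nat_lit 0x24c00124000910004800023c001160008f8004840024600125000938000a80c, nat_lit 0x158004a402, nat_lit 0x38000288000e403, nat_lit 0x380002c8000e403, nat_lit 0x38000338000e403, nat_lit 0x3a000968000ec03, nat_lit 0x3a000978000ec03, nat_lit 0xe8000700007f0001c8000ec05, nat_lit 0x3c000998000f403, nat_lit 0x3c0009b8000f403, nat_lit 0xf000074001310001d8000f405,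 nat_lit 0x3e0009e8000fc03, nat_lit 0x3e0009d8000fc03, nat_lit 0xf800078001350001e8000fc05, nat_lit 0x10001, nat_lit 0xa200010002, nat_lit 0xa38000f8002720003f000a38000f806, nat_lit 0x29000142000a48000f004, nat_lit 0xa50005200027c00149000a58000e806, nat_lit 0x2980014a000a4000500002920014b000a68000e008, nat_lit 0x1c80053c02, nat_lit 0x420002880010c03, nat_lit 0x420002c80010c03, nat_lit 0x420003380010c03, nat_lit 0x420003f80010c03, nat_lit 0x44000a980011403, nat_lit 0x44000aa80011403, nat_lit 0x44000ab80011403, nat_lit 0x11000084001510002180011405, nat_lit 0x46000ad80011c03, nat_lit 0x46000ae80011c03, nat_lit 0x46000b080011c03, nat_lit 0x11800088001590002280011c05, nat_lit 0x48000b180012403, nat_lit 0x48000b480012403, nat_lit 0x48000b380012403, nat_lit 0x1200008c0015f0002380012405, nat_lit 0x4a000b880012c03, nat_lit 0x4a000b680012c03, nat_lit 0x4a000b780012c03, nat_lit 0x12800090001650002480012c05, nat_lit 0x13001, nat_lit 0xbd00013002, nat_lit 0xbe800128002d60004b000be80012806, nat_lit 0x2fc00178000bf80012004,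 nat_lit 0xc00005f8002e40017f000c080011806, nat_lit 0x30400180000bf0005d0002fe00181000c180011008, nat_lit 0xc2000608003000017e000bb0005fc0030200183000c28001080a, nat_lit 0x2180061c02]
theorem st0 : band (steps F IV RT base st0_l 39) (Nat.beq (Nat.add 39 (llen st0_l)) 197) = true := by decide +kernel

theorem ep0a : T.treePath [] (Nat.shiftLeft 1 0) 1 = true := by decide +kernel

theorem ep0b : T.treePath [] (Nat.shiftLeft 1 0) 1 = true := by decide +kernel

theorem ep0c : band (lall (fun z => Nat.ble z 255) ([] ++ 1 :: [])) (concl F IV 197 0x14001 (encA ([] ++ 1 :: []) 0)) = true := by decide +kernel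

theorem ep0d : band (Rule.ok (2 * 9) EX [] ⟨lapp [] [], [], 0, false⟩) (band (lall (memL L) []) (lall (memL L) [])) = true := by decide +kernel

theorem cov1 : T.cover 1 [(Nat.shiftLeft 1 0)] = true := by decide +kernel

theorem tl1 : Nat.beq (T.let 1).tt 0 = true := by decide +kernel

theorem ep1a : T.treePath [] (Nat.shiftLeft 1 0) 1 = true := by decide +kernel

theorem ep1b : T.treePath [] (Nat.shiftLeft 1 0) 1 = true := by decide +kernel

theorem ep1c : band (lall (fun z => Nat.ble z 255) ([] ++ 2 :: [])) (concl F IV 197 0x16001 (encA ([] ++ 2 :: []) 0)) = true := by decide +kernel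

theorem ep1d : band (Rule.ok (2 * 9) EX [] ⟨lapp [] [], [], 0, false⟩) (band (lall (memL L) []) (lall (memL L) [])) = true := by decide +kernel

theorem cov2 : T.cover 2 [(Nat.shiftLeft 1 0)] = true := by decide +kernel

theorem tl2 : Nat.beq (T.let 2).tt 0 = true := by decide +kernel

theorem ep2a : T.treePath [] (Nat.shiftLeft 1 0) 1 = true := by decide +kernel

theorem ep2b : T.treePath [] (Nat.shiftLeft 1 0) 1 = true := by decide +kernel

theorem ep2c : band (lall (fun z => Nat.ble z 255) ([] ++ 3 :: [])) (concl F IV 197 0x19801 (encA ([] ++ 3 :: []) 0)) = true := by decide +kernel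

theorem ep2d : band (Rule.ok (2 * 9) EX [] ⟨lapp [] [], [], 0, false⟩) (band (lall (memL L) []) (lall (memL L) [])) = true := by decide +kernel

theorem cov3 : T.cover 3 [(Nat.shiftLeft 1 0)] = true := by decide +kernel

theorem tl3 : Nat.beq (T.let 3).tt 0 = true := by decide +kernel

theorem ep3a : T.treePath [] (Nat.shiftLeft 1 0) 1 = true := by decide +kernel

theorem ep3b : T.treePath [] (Nat.shiftLeft 1 0) 1 = true := by decide +kernel

theorem ep3c : band (lall (fun z => Nat.ble z 255) ([] ++ 4 :: [])) (concl F IV 197 0x1f801 (encA ([] ++ 4 :: []) 0)) = true := by decide +kernel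

theorem ep3d : band (Rule.ok (2 * 9) EX [] ⟨lapp [] [], [], 0, false⟩) (band (lall (memL L) []) (lall (memL L) [])) = true := by decide +kernel

theorem cov4 : T.cover 4 [(Nat.shiftLeft 1 0)] = true := by decide +kernel

theorem tl4 : Nat.beq (T.let 4).tt 0 = true := by decide +kernel

theorem ep4a : T.treePath [] (Nat.shiftLeft 1 0) 1 = true := by decide +kernel

theorem ep4b : T.treePath [] (Nat.shiftLeft 1 0) 1 = true := by decide +kernel

theorem ep4c : band (lall (fun z => Nat.ble z 255) ([] ++ 5 :: [])) (concl F IV 197 0x29001 (encA ([] ++ 5 :: []) 0)) = true := by decide +kernel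

theorem ep4d : band (Rule.ok (2 * 9) EX [] ⟨lapp [] [], [], 0, false⟩) (band (lall (memL L) []) (lall (memL L) [])) = true := by decide +kernel

theorem cov5 : T.cover 5 [(Nat.shiftLeft 1 0)] = true := by decide +kernel

theorem tl5 : Nat.beq (T.let 5).tt 0 = true := by decide +kernel

theorem ep5a : T.treePath [] (Nat.shiftLeft 1 0) 1 = true := by decide +kernel

theorem ep5b : T.treePath [] (Nat.shiftLeft 1 0) 1 = true := by decide +kernel

theorem ep5c : band (lall (fun z => Nat.ble z 255) ([] ++ 6 :: [])) (concl F IV 197 0x37001 (encA ([] ++ 6 :: []) 0)) = true := by decide +kernel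

theorem ep5d : band (Rule.ok (2 * 9) EX [] ⟨lapp [] [], [], 0, false⟩) (band (lall (memL L) []) (lall (memL L) [])) = true := by decide +kernel

theorem cov6 : T.cover 6 [(Nat.shiftLeft 1 0)] = true := by decide +kernel

theorem tl6 : Nat.beq (T.let 6).tt 0 = true := by decide +kernel

theorem ep6a : T.treePath [] (Nat.shiftLeft 1 0) 1 = true := by decide +kernel

theorem ep6b : T.treePath [] (Nat.shiftLeft 1 0) 1 = true := by decide +kernel

theorem ep6c : band (lall (fun z => Nat.ble z 255) ([] ++ 7 :: [])) (concl F IV 197 0x4a801 (encA ([] ++ 7 :: []) 0)) = true := by decide +kernel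

theorem ep6d : band (Rule.ok (2 * 9) EX [] ⟨lapp [] [], [], 0, false⟩) (band (lall (memL L) []) (lall (memL L) [])) = true := by decide +kernel

theorem cov7 : T.cover 7 [(Nat.shiftLeft 1 0)] = true := by decide +kernel

theorem tl7 : Nat.beq (T.let 7).tt 0 = true := by decide +kernel

theorem ep7a : T.treePath [] (Nat.shiftLeft 1 0) 1 = true := by decide +kernel

theorem ep7b : T.treePath [] (Nat.shiftLeft 1 0) 1 = true := by decide +kernel

theorem ep7c : band (lall (fun z => Nat.ble z 255) ([] ++ 8 :: [])) (concl F IV 197 0x54001 (encA ([] ++ 8 :: []) 0)) = true := by decide +kernel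

theorem ep7d : band (Rule.ok (2 * 9) EX [] ⟨lapp [] [], [], 0, false⟩) (band (lall (memL L) []) (lall (memL L) [])) = true := by decide +kernel

theorem cov8 : T.cover 8 [(Nat.shiftLeft 1 0)] = true := by decide +kernel

theorem tl8 : Nat.beq (T.let 8).tt 0 = true := by decide +kernel

theorem ep8a : T.treePath [] (Nat.shiftLeft 1 0) 1 = true := by decide +kernel

theorem ep8b : T.treePath [] (Nat.shiftLeft 1 0) 1 = true := by decide +kernel

theorem ep8c : band (lall (fun z => Nat.ble z 255) ([] ++ 9 :: [])) (concl F IV 197 0x62001 (encA ([] ++ 9 :: []) 0)) = true := by decide +kernel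

theorem ep8d : band (Rule.ok (2 * 9) EX [] ⟨lapp [] [], [], 0, false⟩) (band (lall (memL L) []) (lall (memL L) [])) = true := by decide +kernel

theorem cov9 : T.cover 9 [(Nat.shiftLeft 1 0)] = true := by decide +kernel

theorem tl9 : Nat.beq (T.let 9).tt 0 = true := by decide +kernel

end Cfsg.Agent.Spor.Fi22N1
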