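import Cfsg.Agent.Spor.Chk

set_option autoImplicit false
set_option maxRecDepth 100000000
set_option Elab.async false
noncomputable section

namespace Cfsg.Agent.Spor.Fi22N1

def n0 : Net := Net.nil

def n1 : Net := Net.nil

def n2 : Net := Net.nil

def n3 : Net := Net.nil

def n4 : Net := Net.nil

def n5 : Net := Net.nil

def n6 : Net := Net.nil

def n7 : Net := Net.nil

def n8 : Net := Net.nil

def ip1 : List Nat := []
def l1 : Let := ⟨0, false, 0x1, 0x0, [0x0]⟩

def ip2 : List Nat := []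
def l2 : Let := ⟨1, false, 0x1, 0x0, [0x0]⟩

def ip3 : List Nat := []
def l3 : Let := ⟨2, false, 0x1, 0x0, [0x0]⟩

def ip4 : List Nat := []
def l4 : Let := ⟨3, false, 0x1, 0x0, [0x0]⟩

def ip5 : List Nat := []
def l5 : Let := ⟨4, false, 0x1, 0x0, [0x0]⟩

def ip6 : List Nat := []
def l6 : Let := ⟨5, false, 0x1, 0x0, [0x0]⟩

def ip7 : List Nat := []
def l7 : Let := ⟨6, false, 0x1, 0x0, [0x0]⟩

def ip8 : List Nat := []
def l8 : Let := ⟨7, false, 0x1, 0x0, [0x0]⟩

def ip9 : List Nat := []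
def l9 : Let := ⟨8, false, 0x1, 0x0, [0x0]⟩

def F : Nat := nat_lit 0x90000000000000002200022000002300023000002400024000002500025000002600026010002600026000002700026030002600026090002600026080002600026040002600025040002500025090002500025080002500025010002500024080002400024090002400024020002400024010002400023090002300023030002300023020002300023010002300022040002200022030002200022020002200022010002200000080000000000000001d0001d000001e0001e000001f0001f00000200002001000200002000000210002003000200002008000200002004000200001f040001f0001f080001f0001f010001f0001e080001e0001e020001e0001e010001e0001d030001d0001d020001d0001d010001d00000070000000000000001600016000001700017000001800018000001900019000001a0001a000001b0001b010001b0001b000001c0001b030001b0001b070001b0001b060001b0001b050001b0001b040001b0001a040001a0001a070001a0001a060001a0001a050001a0001a010001a0001905000190001907000190001906000190001902000190001901000190001806000180001807000180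0018030001800018020001800018010001800017070001700017040001700017030001700017020001700017010001700016050001600016040001600016030001600016020001600016010001600000060000000000000001000010000001100011000001200012000001300013000001400014010001400014000001500014030001400014060001400014050001400014040001400013040001300013060001300013050001300013010001300012050001200012060001200012020001200012010001200011060001100011030001100011020001100011010001100010040001000010030001000010020001000010010001000000050000000000000000b0000b000000c0000c000000d0000d000000e0000e010000e0000e000000f0000e030000e0000e050000e0000e040000e0000d040000d0000d050000d0000d010000d0000c050000c0000c020000c0000c010000c0000b030000b0000b020000b0000b010000b00000040000000000000000700007000000800008000000900009010000900009000000a0000903000090000904000090000804000080000801000080000702000070000701000070000003000000000000000040000400000050000501000050000500000060000503000050000401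0000400000020000000000000000200002010000200002000000300000010000000000000000100027010002600026020002500025030002400024040002300023080002200022090000000021010002000020020001f0001f030001e0001e040001d0001d08000000001c010001b0001b020001a0001a03000190001904000180001805000170001706000160001607000000001501000140001402000130001303000120001204000110001105000100001006000000000f010000e0000e020000d0000d030000c0000c040000b0000b05000000000a0100009000090200008000080300007000070400000000060100005000050200004000040300000000030100002000020200000000010100000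

def rt0_13 : RTree := RTree.node 0x606 ⟨[6, 6], [], 40, false⟩ (RTree.node 0x303 ⟨[3, 3], [], 40, false⟩ (RTree.node 0x101 ⟨[1, 1], [], 40, false⟩ (RTree.node 0x1 ⟨[1], [], 39, true⟩ (RTree.leaf) (RTree.leaf)) (RTree.node 0x202 ⟨[2, 2], [], 40, false⟩ (RTree.leaf) (RTree.leaf))) (RTree.node 0x505 ⟨[5, 5], [], 40, false⟩ (RTree.node 0x404 ⟨[4, 4], [], 40, false⟩ (RTree.leaf) (RTree.leaf)) (RTree.leaf))) (RTree.node 0x1030103 ⟨[1, 3, 1, 3], [], 1, false⟩ (RTree.node 0x808 ⟨[8, 8], [], 40, false⟩ (RTree.node 0x707 ⟨[7, 7], [], 40, false⟩ (RTree.leaf) (RTree.leaf)) (RTree.node 0x909 ⟨[9, 9], [], 40, false⟩ (RTree.leaf) (RTree.leaf))) (RTree.node 0x1050105 ⟨[1, 5, 1, 5], [], 3, false⟩ (RTree.node 0x1040104 ⟨[1, 4, 1, 4], [], 2, false⟩ (RTree.leaf) (RTree.leaf)) (RTree.leaf)))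
def rt14_27 : RTree := RTree.node 0x2070207 ⟨[2, 7, 2, 7], [], 12, false⟩ (RTree.node 0x2040204 ⟨[2, 4, 2, 4], [], 9, false⟩ (RTree.node 0x1080108 ⟨[1, 8, 1, 8], [], 6, false⟩ (RTree.node 0x1070107 ⟨[1, 7, 1, 7], [], 5, false⟩ (RTree.leaf) (RTree.leaf)) (RTree.node 0x1090109 ⟨[1, 9, 1, 9], [], 7, false⟩ (RTree.leaf) (RTree.leaf))) (RTree.node 0x2060206 ⟨[2, 6, 2, 6], [], 11, false⟩ (RTree.node 0x2050205 ⟨[2, 5, 2, 5], [], 10, false⟩ (RTree.leaf) (RTree.leaf)) (RTree.leaf))) (RTree.node 0x3060306 ⟨[3, 6, 3, 6], [], 17, false⟩ (RTree.node 0x2090209 ⟨[2, 9, 2, 9], [], 14, false⟩ (RTree.node 0x2080208 ⟨[2, 8, 2, 8], [], 13, false⟩ (RTree.leaf) (RTree.leaf)) (RTree.node 0x3050305 ⟨[3, 5, 3, 5], [], 16, false⟩ (RTree.leaf) (RTree.leaf))) (RTree.node 0x3080308 ⟨[3, 8, 3, 8], [], 19, false⟩ (RTree.node 0x3070307 ⟨[3, 7, 3, 7], [], 18, false⟩ (RTree.leaf) (RTree.leaf)) (RTree.leaf)))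
def rt0_27 : RTree := RTree.node 0x1060106 ⟨[1, 6, 1, 6], [], 4, false⟩ (rt0_13) (rt14_27)
def rt28_41 : RTree := RTree.node 0x5070507 ⟨[5, 7, 5, 7], [], 27, false⟩ (RTree.node 0x4090409 ⟨[4, 9, 4, 9], [], 25, false⟩ (RTree.node 0x4060406 ⟨[4, 6, 4, 6], [], 22, false⟩ (RTree.node 0x4020402 ⟨[4, 2, 4, 2], [], 9, true⟩ (RTree.leaf) (RTree.leaf)) (RTree.node 0x4070407 ⟨[4, 7, 4, 7], [], 23, false⟩ (RTree.leaf) (RTree.leaf))) (RTree.node 0x5030503 ⟨[5, 3, 5, 3], [], 16, true⟩ (RTree.node 0x5020502 ⟨[5, 2, 5, 2], [], 10, true⟩ (RTree.leaf) (RTree.leaf)) (RTree.leaf))) (RTree.node 0x7020702 ⟨[7, 2, 7, 2], [], 12, true⟩ (RTree.node 0x6030603 ⟨[6, 3, 6, 3], [], 17, true⟩ (RTree.node 0x6020602 ⟨[6, 2, 6, 2], [], 11, true⟩ (RTree.leaf) (RTree.leaf)) (RTree.node 0x6040604 ⟨[6, 4, 6, 4], [], 22, true⟩ (RTree.leaf) (RTree.leaf))) (RTree.node 0x7040704 ⟨[7, 4, 7, 4], [], 23, true⟩ (RTree.node 0x7030703 ⟨[7, 3, 7, 3], [], 18, true⟩ (RTree.leaf)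 (RTree.leaf)) (RTree.leaf)))
def rt42_55 : RTree := RTree.node 0x30203020302 ⟨[3, 2, 3, 2, 3, 2], [], 8, true⟩ (RTree.node 0x9030903 ⟨[9, 3, 9, 3], [], 20, true⟩ (RTree.node 0x8030803 ⟨[8, 3, 8, 3], [], 19, true⟩ (RTree.node 0x8020802 ⟨[8, 2, 8, 2], [], 13, true⟩ (RTree.leaf) (RTree.leaf)) (RTree.node 0x9020902 ⟨[9, 2, 9, 2], [], 14, true⟩ (RTree.leaf) (RTree.leaf))) (RTree.node 0x20102010201 ⟨[2, 1, 2, 1, 2, 1], [], 0, true⟩ (RTree.node 0x9040904 ⟨[9, 4, 9, 4], [], 25, true⟩ (RTree.leaf) (RTree.leaf)) (RTree.leaf))) (RTree.node 0x70607060706 ⟨[7, 6, 7, 6, 7, 6], [], 30, true⟩ (RTree.node 0x50405040504 ⟨[5, 4, 5, 4, 5, 4], [], 21, true⟩ (RTree.node 0x40304030403 ⟨[4, 3, 4, 3, 4, 3], [], 15, true⟩ (RTree.leaf) (RTree.leaf)) (RTree.node 0x60506050605 ⟨[6, 5, 6, 5, 6, 5], [], 26, true⟩ (RTree.leaf) (RTree.leaf))) (RTree.node 0x90809080908 ⟨[9, 8, 9, 8, 9, 8], [], 35, true⟩ (RTree.node 0x80408040804 ⟨[8, 4, 8, 4, 8, 4], [], 24, true⟩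 (RTree.leaf) (RTree.leaf)) (RTree.leaf)))
def rt28_55 : RTree := RTree.node 0x7050705 ⟨[7, 5, 7, 5], [], 27, true⟩ (rt28_41) (rt42_55)
def rt0_55 : RTree := RTree.node 0x3090309 ⟨[3, 9, 3, 9], [], 20, false⟩ (rt0_27) (rt28_55)
def RT : RTree := rt0_55

def NT : List Net := [n0, n1, n2, n3, n4, n5, n6, n7, n8]
def LT : List Let := [⟨0, false, 0, 0, []⟩, l1, l2, l3, l4, l5, l6, l7, l8, l9]
def T : Tab := ⟨NT, LT⟩
def EX : List (List Nat) := [[], [0], [2], [4], [6], [8], [10], [12], [14], [16]]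
def RL : List (List Nat) := [[0, 2, 0, 2, 0, 2], [0, 4, 0, 4], [0, 6, 0, 6], [0, 8, 0, 8], [0, 10, 0, 10], [0, 12, 0, 12], [0, 14, 0, 14], [0, 16, 0, 16], [2, 4, 2, 4, 2, 4], [2, 6, 2, 6], [2, 8, 2, 8], [2, 10, 2, 10], [2, 12, 2, 12], [2, 14, 2, 14], [2, 16, 2, 16], [4, 6, 4, 6, 4, 6], [4, 8, 4, 8], [4, 10, 4, 10], [4, 12, 4, 12], [4, 14, 4, 14], [4, 16, 4, 16], [6, 8, 6, 8, 6, 8], [6, 10, 6, 10], [6, 12, 6, 12], [6, 14, 6, 14, 6, 14], [6, 16, 6, 16], [8, 10, 8, 10, 8, 10], [8, 12, 8, 12], [8, 14, 8, 14], [8, 16, 8, 16], [10, 12, 10, 12, 10, 12], [10, 14, 10, 14], [10, 16, 10, 16], [12, 14, 12, 14], [12, 16, 12, 16], [14, 16, 14, 16, 14, 16], [6, 4, 2, 6, 8, 10, 6, 14, 16, 6, 4, 2, 6, 8, 10, 6, 14, 16, 6, 4, 2, 6, 8, 10, 6, 14, 16, 6, 4, 2, 6, 8, 10, 6, 14, 16, 6, 4, 2, 6, 8, 10, 6, 14, 16, 6, 4, 2, 6, 8, 10, 6, 14, 16, 6, 4, 2, 6, 8, 10, 6, 14, 16, 6, 4, 2, 6, 8, 10, 6, 14, 16, 6, 4, 2, 6, 8, 10, 6, 14, 16, 6, 4, 2, 6, 8, 10, 6,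 14, 16], [0, 2, 4, 6, 8, 10, 14, 0, 2, 4, 6, 8, 10, 14, 0, 2, 4, 6, 8, 10, 14, 0, 2, 4, 6, 8, 10, 14, 0, 2, 4, 6, 8, 10, 14, 0, 2, 4, 6, 8, 10, 14, 0, 2, 4, 6, 8, 10, 14, 0, 2, 4, 6, 8, 10, 14, 0, 2, 4, 6, 8, 10, 14], [2, 4, 6, 8, 10, 12, 14, 2, 4, 6, 8, 10, 12, 14, 2, 4, 6, 8, 10, 12, 14, 2, 4, 6, 8, 10, 12, 14, 2, 4, 6, 8, 10, 12, 14, 2, 4, 6, 8, 10, 12, 14, 2, 4, 6, 8, 10, 12, 14, 2, 4, 6, 8, 10, 12, 14, 2, 4, 6, 8, 10, 12, 14], [0]]
def XL : List (List Nat) := []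
def BW : List (List Nat) := []
def IV : Nat := 0x9080706050403020100
def L : List Nat := [1, 2, 3, 4, 5, 6, 7, 8, 9]
def gs : List Nat := [1, 2, 3, 4, 5, 6, 7, 8, 9]
def base : List Nat := []

end Cfsg.Agent.Spor.Fi22N1
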